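import Cfsg.Agent.Lib.Fi22Out.Data
import Cfsg.Agent.Lib.Enum.FiATable

/-! Kernel checks on the 3510-point table of Fi22: transpositions, the element of order eleven,
rigidity and the outer automorphism. -/

set_option autoImplicit false
set_option maxRecDepth 100000

namespace Cfsg.Agent.Fi22Out

open Cfsg.Agent.Enum

/-- The table. -/
abbrev T : Table := FiA.table

/-- A word moving the base point to a point. -/
def wordTo : ℕ → ℕ → List ℕ
  | 0, _ => []
  | fuel + 1, i =>
    bif Nat.beq i 0 then [] else (field 20 parData i % 16) :: wordTo fuel (field 20 parData i / 16)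

/-- The word of the transposition of a point. -/
def dWord (i : ℕ) : List ℕ := wordTo 40 i ++ [0] ++ (wordTo 40 i).reverse

/-- The transposition of `i` applied to `j`. -/
def op (i j : ℕ) : ℕ := T.imgWord (dWord i) j

/-- The element of order eleven on points. -/
def yImg (i : ℕ) : ℕ := field 16 yData i

/-- Iterate. -/
def yIter : ℕ → ℕ → ℕ
  | 0, i => i
  | k + 1, i => yImg (yIter k i)

/-- Entry of a trace. -/
def ent (V : List ℕ) (k : ℕ) : ℕ := V.getD k 0

/-- A trace follows the recursion. -/
def chkTrace (V : List ℕ) : Bool :=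
  Nat.beq V.length 34 && (List.range 34).all (fun k => Nat.blt (ent V k) T.N) &&
  Nat.beq (ent V 0) 0 &&
  (List.range 10).all (fun k => Nat.beq (yImg (ent V (k + 1))) (ent V (k + 2))) &&
  circuit.all (fun c => Nat.beq (op (ent V c.1) (ent V c.2.1)) (ent V c.2.2))

/-- A trace fails a test. -/
def chkBad (V : List ℕ) : Bool :=
  tests.any (fun c => !(Nat.beq (op (ent V c.1) (ent V c.2.1)) (ent V c.2.2)))

/-- The representative of a moved point. -/
def chkCover (i : ℕ) : Bool :=
  let e := field 24 covData i
  Nat.beq (T.img 0 i) i ||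
    (Nat.blt (e / 256) T.N && Nat.blt (e / 2 % 128) 11 &&
     (Nat.beq (e / 256) (ent baseTrace 1) || traces.any (fun V => Nat.beq (ent V 1) (e / 256))) &&
     Nat.beq i (bif Nat.beq (e % 2) 0 then yIter (e / 2 % 128) (e / 256)
       else T.img 0 (yIter (e / 2 % 128) (e / 256))))

/-- The graph symmetry of the diagram. -/
def sw (x : ℕ) : ℕ := ([6, 5, 4, 3, 2, 1, 0, 7, 8] : List ℕ).getD x x

/-- A word fixes the points of the nine generators. -/
def chkNine (w : List ℕ) : Bool :=
  (List.range 9).all (fun x =>
    Nat.beq (T.imgWord w (ent baseTrace (genPos.getD x 99))) (ent baseTrace (genPos.getD x 99)))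

end Cfsg.Agent.Fi22Out
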