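import Cfsg.Agent.Lib.Fi22Out.Check

/-! Kernel checks: the points of the generators. -/

set_option autoImplicit false
set_option maxRecDepth 100000
set_option Elab.async false

namespace Cfsg.Agent.Fi22Out

open Cfsg.Agent.Enum

theorem genPos_lt : (List.range 9).all (fun x => Nat.blt (genPos.getD x 99) 34) = true := by
  decide +kernel

theorem gens_ok0 : allRange
    (fun j => Nat.beq (op (ent baseTrace (genPos.getD 0 99)) j) (T.img 0 j)) 64 0 3510 = true := by
  decide +kernel

theorem gens_ok1 : allRange
    (fun j => Nat.beq (op (ent baseTrace (genPos.getD 1 99)) j) (T.img 1 j)) 64 0 3510 = true := by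
  decide +kernel

theorem gens_ok2 : allRange
    (fun j => Nat.beq (op (ent baseTrace (genPos.getD 2 99)) j) (T.img 2 j)) 64 0 3510 = true := by
  decide +kernel

theorem gens_ok3 : allRange
    (fun j => Nat.beq (op (ent baseTrace (genPos.getD 3 99)) j) (T.img 3 j)) 64 0 3510 = true := by
  decide +kernel

theorem gens_ok4 : allRange
    (fun j => Nat.beq (op (ent baseTrace (genPos.getD 4 99)) j) (T.img 4 j)) 64 0 3510 = true := by
  decide +kernel

theorem gens_ok5 : allRange
    (fun j => Nat.beq (op (ent baseTrace (genPos.getD 5 99)) j) (T.img 5 j)) 64 0 3510 = true := by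
  decide +kernel

theorem gens_ok6 : allRange
    (fun j => Nat.beq (op (ent baseTrace (genPos.getD 6 99)) j) (T.img 6 j)) 64 0 3510 = true := by
  decide +kernel

theorem gens_ok7 : allRange
    (fun j => Nat.beq (op (ent baseTrace (genPos.getD 7 99)) j) (T.img 7 j)) 64 0 3510 = true := by
  decide +kernel

theorem gens_ok8 : allRange
    (fun j => Nat.beq (op (ent baseTrace (genPos.getD 8 99)) j) (T.img 8 j)) 64 0 3510 = true := by
  decide +kernel


end Cfsg.Agent.Fi22Out
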