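import Cfsg.Agent.Lib.Fi22Out.Check

/-! Kernel checks: rigidity. -/

set_option autoImplicit false
set_option maxRecDepth 100000
set_option Elab.async false

namespace Cfsg.Agent.Fi22Out

open Cfsg.Agent.Enum

theorem a_moves : T.img 0 (ent baseTrace 1) ≠ ent baseTrace 1 := by decide +kernel

theorem base_ok : chkTrace baseTrace = true := by decide +kernel

theorem base_tests :
    tests.all (fun c => Nat.beq (op (ent baseTrace c.1) (ent baseTrace c.2.1)) (ent baseTrace c.2.2) &&
      Nat.blt c.1 34 && Nat.blt c.2.1 34 && Nat.blt c.2.2 34) = true := by
  decide +kernel

theorem traces_ok0 : ((traces.drop 0).take 8).all chkTrace = true := by decide +kernel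

theorem traces_ok8 : ((traces.drop 8).take 8).all chkTrace = true := by decide +kernel

theorem traces_ok16 : ((traces.drop 16).take 8).all chkTrace = true := by decide +kernel

theorem traces_ok24 : ((traces.drop 24).take 8).all chkTrace = true := by decide +kernel

theorem traces_ok32 : ((traces.drop 32).take 8).all chkTrace = true := by decide +kernel

theorem traces_ok40 : ((traces.drop 40).take 8).all chkTrace = true := by decide +kernel

theorem traces_ok48 : ((traces.drop 48).take 8).all chkTrace = true := by decide +kernel

theorem traces_ok56 : ((traces.drop 56).take 8).all chkTrace = true := by decide +kernel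

theorem traces_ok64 : ((traces.drop 64).take 8).all chkTrace = true := by decide +kernel

theorem traces_ok72 : ((traces.drop 72).take 8).all chkTrace = true := by decide +kernel

theorem traces_ok80 : ((traces.drop 80).take 8).all chkTrace = true := by decide +kernel

theorem traces_ok88 : ((traces.drop 88).take 8).all chkTrace = true := by decide +kernel

theorem traces_ok96 : ((traces.drop 96).take 8).all chkTrace = true := by decide +kernel

theorem traces_ok104 : ((traces.drop 104).take 8).all chkTrace = true := by decide +kernel

theorem traces_ok112 : ((traces.drop 112).take 8).all chkTrace = true := by decide +kernel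

theorem traces_ok120 : ((traces.drop 120).take 8).all chkTrace = true := by decide +kernel

theorem traces_split : traces = (traces.drop 0).take 8 ++ (traces.drop 8).take 8 ++ (traces.drop 16).take 8 ++ (traces.drop 24).take 8 ++ (traces.drop 32).take 8 ++ (traces.drop 40).take 8 ++ (traces.drop 48).take 8 ++ (traces.drop 56).take 8 ++ (traces.drop 64).take 8 ++ (traces.drop 72).take 8 ++ (traces.drop 80).take 8 ++ (traces.drop 88).take 8 ++ (traces.drop 96).take 8 ++ (traces.drop 104).take 8 ++ (traces.drop 112).take 8 ++ (traces.drop 120).take 8 := by decide +kernel

theorem traces_ok : traces.all chkTrace = true := by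
  rw [traces_split]
  simp only [List.all_append, traces_ok0, traces_ok8, traces_ok16, traces_ok24, traces_ok32, traces_ok40, traces_ok48, traces_ok56, traces_ok64, traces_ok72, traces_ok80, traces_ok88, traces_ok96, traces_ok104, traces_ok112, traces_ok120, Bool.and_self]

theorem traces_bad : traces.all chkBad = true := by decide +kernel

theorem cover_ok : allRange chkCover 64 0 3510 = true := by decide +kernel

theorem circuit_ok : (List.range 22).all (fun s =>
    match circuit[s]? with
    | some c => Nat.beq c.2.2 (12 + s) && Nat.blt c.1 (12 + s) && Nat.blt c.2.1 (12 + s)
    | none => false) = true := by decide +kernel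


end Cfsg.Agent.Fi22Out
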