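import Cfsg.Agent.Lib.Fi22Out.Check

/-! Kernel checks: words to points, the point stabiliser. -/

set_option autoImplicit false
set_option maxRecDepth 100000
set_option Elab.async false

namespace Cfsg.Agent.Fi22Out

open Cfsg.Agent.Enum

theorem wordTo_ok0 :
    allRange (fun i => Nat.beq (T.imgWord (wordTo 40 i).reverse 0) i) 64 0 878 = true := by
  decide +kernel

theorem wordTo_ok1 :
    allRange (fun i => Nat.beq (T.imgWord (wordTo 40 i).reverse 0) i) 64 878 878 = true := by
  decide +kernel

theorem wordTo_ok2 :
    allRange (fun i => Nat.beq (T.imgWord (wordTo 40 i).reverse 0) i) 64 1756 877 = true := by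
  decide +kernel

theorem wordTo_ok3 :
    allRange (fun i => Nat.beq (T.imgWord (wordTo 40 i).reverse 0) i) 64 2633 877 = true := by
  decide +kernel

theorem a_commutes0 : ((FiA.data.subs.drop 0).take 1).all
    (fun w => T.chkWord ([0] ++ w ++ [0] ++ w.reverse)) = true := by decide +kernel

theorem a_commutes1 : ((FiA.data.subs.drop 1).take 1).all
    (fun w => T.chkWord ([0] ++ w ++ [0] ++ w.reverse)) = true := by decide +kernel

theorem a_commutes2 : ((FiA.data.subs.drop 2).take 1).all
    (fun w => T.chkWord ([0] ++ w ++ [0] ++ w.reverse)) = true := by decide +kernel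

theorem a_commutes3 : ((FiA.data.subs.drop 3).take 1).all
    (fun w => T.chkWord ([0] ++ w ++ [0] ++ w.reverse)) = true := by decide +kernel

theorem a_commutes4 : ((FiA.data.subs.drop 4).take 1).all
    (fun w => T.chkWord ([0] ++ w ++ [0] ++ w.reverse)) = true := by decide +kernel

theorem a_commutes5 : ((FiA.data.subs.drop 5).take 1).all
    (fun w => T.chkWord ([0] ++ w ++ [0] ++ w.reverse)) = true := by decide +kernel

theorem a_commutes6 : ((FiA.data.subs.drop 6).take 1).all
    (fun w => T.chkWord ([0] ++ w ++ [0] ++ w.reverse)) = true := by decide +kernel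

theorem a_commutes7 : ((FiA.data.subs.drop 7).take 1).all
    (fun w => T.chkWord ([0] ++ w ++ [0] ++ w.reverse)) = true := by decide +kernel

theorem a_commutes8 : ((FiA.data.subs.drop 8).take 1).all
    (fun w => T.chkWord ([0] ++ w ++ [0] ++ w.reverse)) = true := by decide +kernel

theorem subs_length : FiA.data.subs.length ≤ 9 := by decide +kernel

theorem a_b : T.img 0 (T.img 1 0) = T.img 1 (T.img 0 0) → False := by decide +kernel

end Cfsg.Agent.Fi22Out
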