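import Cfsg.Agent.Lib.Fi22Out.Check

/-! Kernel checks: the element of order eleven and the graph automorphism. -/

set_option autoImplicit false
set_option maxRecDepth 100000
set_option Elab.async false

namespace Cfsg.Agent.Fi22Out

open Cfsg.Agent.Enum

theorem y_ok0 :
    allRange (fun i => Nat.beq (T.imgWord yWord.reverse i) (yImg i)) 64 0 878 = true := by
  decide +kernel

theorem y_ok1 :
    allRange (fun i => Nat.beq (T.imgWord yWord.reverse i) (yImg i)) 64 878 878 = true := by
  decide +kernel

theorem y_ok2 :
    allRange (fun i => Nat.beq (T.imgWord yWord.reverse i) (yImg i)) 64 1756 877 = true := by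
  decide +kernel

theorem y_ok3 :
    allRange (fun i => Nat.beq (T.imgWord yWord.reverse i) (yImg i)) 64 2633 877 = true := by
  decide +kernel

theorem y_free : allRange (fun i => Nat.beq i 0 || !(Nat.beq (yImg i) i)) 64 0 3510 = true := by
  decide +kernel

theorem y_zero : yImg 0 = 0 := by decide +kernel

theorem y_pow : allRange (fun i => Nat.beq (yIter 11 i) i) 64 0 3510 = true := by decide +kernel

theorem sw_rels : presFi22.relWords.all (fun w => chkNine (w.map sw)) = true := by decide +kernel

theorem alpha_a : chkNine (kWord ++ [6] ++ kWord.reverse ++ [0]) = true := by decide +kernel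

theorem alpha_y : chkNine (kWord ++ yWord.map sw ++ kWord.reverse ++ yWord) = true := by
  decide +kernel

end Cfsg.Agent.Fi22Out
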