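import Cfsg.Agent.Lib.Fi22Out.Rigid
import Cfsg.Prelude.Def_KGroupFacts

/-! The outer automorphism group of Fi22 has order two. -/

set_option autoImplicit false
set_option maxRecDepth 100000

namespace Cfsg.Agent.Fi22Out

open Cfsg.Agent.Enum

theorem center_bot : ∀ g : G, (∀ h, g * h = h * g) → g = 1 := by
  intro g hg
  haveI : IsSimpleGroup G := FiMain.isSimple
  rcases (Subgroup.center G).normal_of_characteristic.eq_bot_or_eq_top with h | h
  · exact (Subgroup.mem_bot).1 (h ▸ Subgroup.mem_center_iff.2 fun x => (hg x).symm)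
  · exfalso
    have e : gn 1 * aG = aG * gn 1 :=
      (Subgroup.mem_center_iff.1 (h ▸ Subgroup.mem_top aG) (gn 1))
    have e' := congrArg (fun p => ((phi p) z0 : ℕ)) e
    simp only [map_mul, phi_gen, Equiv.Perm.mul_apply] at e'
    exact a_b e'.symm

theorem conj_inj {g h : G} (e : MulAut.conj g = MulAut.conj h) : g = h := by
  have : h⁻¹ * g = 1 := center_bot _ fun x => by
    have e' := DFunLike.congr_fun e x
    rw [MulAut.conj_apply, MulAut.conj_apply] at e'
    calc h⁻¹ * g * x = h⁻¹ * (g * x * g⁻¹) * g := by group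
      _ = x * (h⁻¹ * g) := by rw [e']; group
  exact (inv_mul_eq_one.1 this).symm

/-- Nine points decide triviality. -/
theorem wp_one9 {w : List ℕ} (h : chkNine w = true) : wp w = 1 := by
  have h0 : wp w.reverse = 1 := center_bot _ fun x => by
    have hc : ∀ y ∈ Subgroup.closure (Set.range presFi22.g), wp w.reverse * y = y * wp w.reverse := by
      intro y hy
      induction hy using Subgroup.closure_induction with
      | mem y hy =>
        obtain ⟨x, rfl⟩ := hy
        rcases Nat.lt_or_ge x 9 with hx | hx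
        · show wp w.reverse * gn x = gn x * wp w.reverse
          set p := pt (ent baseTrace (genPos.getD x 99)) with hp
          have hfix : phi (wp w.reverse) p = p := by
            refine Fin.ext ?_
            rw [phi_wp, List.reverse_reverse, hp, pt_val ((trace_facts base_ok).1 _ (genPt_lt hx))]
            exact Table.beq_eq (List.all_eq_true.1 h x (List.mem_range.2 hx))
          have e : (wp w.reverse * toPt p) * aG * (wp w.reverse * toPt p)⁻¹ = dd p :=
            dd_spec (by rw [map_mul, Equiv.Perm.mul_apply, toPt_spec, hfix])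
          rw [← gen_dd hx, ← hp]
          conv_rhs => rw [← e]
          rw [dd]; group
        · rw [presFi22.g_junk x hx, one_mul, mul_one]
      | one => rw [one_mul, mul_one]
      | mul a b _ _ iha ihb => rw [← mul_assoc, iha, mul_assoc, ihb, mul_assoc]
      | inv a _ iha => exact (Commute.inv_right iha).eq
    exact hc x (presFi22.g_gen ▸ Subgroup.mem_top x)
  rwa [wp_rev, inv_eq_one] at h0

theorem a_ne_one : aG ≠ 1 := by
  intro h
  apply a_moves
  have hb := (trace_facts base_ok).1 1 (by norm_num)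
  have e := congrArg (fun p => ((phi p) (pt (ent baseTrace 1)) : ℕ)) h
  simp only [phi_gen, map_one, Equiv.Perm.one_apply] at e
  rw [pt_val hb] at e
  exact (congrArg (T.img 0) (pt_val hb).symm).trans e

theorem y_eleven : yG ^ 11 = 1 := phi_inj (Equiv.ext fun i => Fin.ext (by
  rw [phi_y_pow, map_one]
  exact Table.beq_eq (allRange_spec 64 0 3510 y_pow i (Nat.zero_le _) (by rw [Nat.zero_add]; exact i.2))))

theorem y_ne_one : yG ≠ 1 := by
  intro h
  have e := y_fix_only (i := pt 1) (by rw [h, map_one]; rfl)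
  have := congrArg Fin.val e
  rw [pt_val (by decide +kernel)] at this
  exact absurd this Nat.one_ne_zero

theorem order_y : orderOf yG = 11 :=
  haveI : Fact (Nat.Prime 11) := ⟨by norm_num⟩
  orderOf_eq_prime y_eleven y_ne_one

theorem a_sq : aG * aG = 1 := presFi22.g_mul_self 0

theorem comm_pow (k : ℕ) : yG ^ k * aG = aG * yG ^ k :=
  ((Commute.pow_left (show Commute yG aG from a_comm_y) k)).eq

/-- The centraliser of the element of order eleven. -/
theorem centralizer_y {g : G} (hg : g * yG = yG * g) :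
    ∃ k < 11, g = yG ^ k ∨ g = aG * yG ^ k := by
  have hfix : phi g z0 = z0 := y_fix_only (by
    rw [← Equiv.Perm.mul_apply, ← map_mul, ← hg, map_mul, Equiv.Perm.mul_apply, y_fix])
  have ha := (fix_iff_comm g).1 hfix
  obtain ⟨k, hk, h⟩ := rigid (MulAut.conj g) (by rw [MulAut.conj_apply, ha]; group)
    (by rw [MulAut.conj_apply, hg]; group)
  exact ⟨k, hk, h.imp conj_inj conj_inj⟩

/-- The subgroup of order eleven. -/
noncomputable abbrev Py : Subgroup G := Subgroup.zpowers yG

theorem card_Py : Nat.card Py = 11 := by rw [Nat.card_zpowers, order_y]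

theorem sylow_card (Q : Sylow 11 G) : Nat.card (Q : Subgroup G) = 11 := by
  haveI : Fact (Nat.Prime 11) := ⟨by norm_num⟩
  rw [Q.card_eq_multiplicity, FiMain.card_grp]
  obtain ⟨n, hn⟩ : ∃ n, n = (64561751654400 : ℕ).factorization 11 := ⟨_, rfl⟩
  have h1 : 11 ^ n ∣ 64561751654400 := hn ▸ Nat.ordProj_dvd _ _
  have h2 : 1 ≤ n := hn ▸ (Nat.Prime.dvd_iff_one_le_factorization (by norm_num) (by norm_num)).1
    (by norm_num)
  rw [← hn]
  rcases (show n = 1 ∨ 2 ≤ n by omega) with h | h
  · rw [h, pow_one]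
  · exact absurd ((pow_dvd_pow 11 h).trans h1) (by norm_num)

/-- The Sylow subgroup. -/
theorem exists_sylow : ∃ Q : Sylow 11 G, (Q : Subgroup G) = Py := by
  haveI : Fact (Nat.Prime 11) := ⟨by norm_num⟩
  have hp : IsPGroup 11 Py := IsPGroup.of_card (n := 1) (by rw [card_Py, pow_one])
  obtain ⟨Q, hQ⟩ := hp.exists_le_sylow
  exact ⟨Q, (Subgroup.eq_of_le_of_card_ge hQ (by rw [sylow_card, card_Py])).symm⟩

theorem card_centralizer : Nat.card (Subgroup.centralizer ({yG} : Set G)) = 22 := by
  apply le_antisymm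
  · have hs : ((Subgroup.centralizer ({yG} : Set G)) : Set G) ⊆
        Set.range fun p : Fin 2 × Fin 11 => aG ^ (p.1 : ℕ) * yG ^ (p.2 : ℕ) := by
      intro g hg
      obtain ⟨k, hk, h | h⟩ := centralizer_y (Subgroup.mem_centralizer_singleton_iff.1 hg)
      · exact ⟨(0, ⟨k, hk⟩), by simp [h]⟩
      · exact ⟨(1, ⟨k, hk⟩), by simp [h]⟩
    refine (Nat.card_mono (Set.toFinite _) hs).trans ((Finite.card_range_le _).trans ?_)
    simp
  · refine Nat.le_of_dvd Nat.card_pos
      (Nat.Coprime.mul_dvd_of_dvd_of_dvd (show Nat.Coprime 2 11 by norm_num) ?_ ?_)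
    · have h := Subgroup.orderOf_dvd_natCard (G := G) (Subgroup.centralizer ({yG} : Set G))
        (x := aG) (Subgroup.mem_centralizer_singleton_iff.2 a_comm_y.symm)
      rwa [orderOf_eq_prime (by rw [sq, a_sq]) a_ne_one] at h
    · have h := Subgroup.orderOf_dvd_natCard (G := G) (Subgroup.centralizer ({yG} : Set G))
        (x := yG) (Subgroup.mem_centralizer_singleton_iff.2 rfl)
      rwa [order_y] at h

/-- The automiser map. -/
noncomputable abbrev nmap : ↥(Subgroup.normalizer (Py : Set G)) →* MulAut Py :=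
  Subgroup.normalizerMonoidHom Py

theorem card_range : Nat.card nmap.range = 5 := by
  haveI : Fact (Nat.Prime 11) := ⟨by norm_num⟩
  have hA : Nat.card (MulAut Py) = 10 := by
    rw [IsCyclic.card_mulAut, card_Py]; exact Nat.totient_prime (by norm_num)
  have hdvd := Subgroup.card_subgroup_dvd_card nmap.range
  rw [hA] at hdvd
  have hker : Nat.card nmap.ker = 22 := by
    rw [← card_centralizer, nmap, Subgroup.normalizerMonoidHom_ker,
      Nat.card_congr (Subgroup.subgroupOfEquivOfLe (fun g hg => Subgroup.mem_normalizer_iff.2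
        fun x => ?_)).toEquiv]
    · rw [Py, Subgroup.zpowers_eq_closure, Subgroup.centralizer_closure]
    · have hg' : ∀ z ∈ Py, z * g = g * z := Subgroup.mem_centralizer_iff.1 hg
      constructor
      · intro hx
        rwa [← hg' x hx, mul_inv_cancel_right]
      · intro hx
        have e := hg' _ hx
        have e' : g * x * g⁻¹ = x := by
          have := congrArg (fun z => g⁻¹ * z) e
          simpa [mul_assoc] using this.symm
        rwa [e'] at hx
  have hN : Nat.card ↥(Subgroup.normalizer (Py : Set G)) = 22 * Nat.card nmap.range := by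
    rw [← Subgroup.card_mul_index nmap.ker, hker, Subgroup.index_ker]
  obtain ⟨Q, hQ⟩ := exists_sylow
  have hmod := card_sylow_modEq_one 11 G
  have hcs : ((Q : Subgroup G) : Set G) = (Py : Set G) := congrArg _ hQ
  rw [Q.card_eq_index_normalizer] at hmod
  rw [show (Q : Set G) = (Py : Set G) from hcs] at hmod
  have hidx := Subgroup.index_mul_card (Subgroup.normalizer (Py : Set G))
  rw [hN, FiMain.card_grp] at hidx
  have hmem := Nat.mem_divisors.2 ⟨hdvd, by norm_num⟩
  rw [show Nat.divisors 10 = {1, 2, 5, 10} by decide] at hmem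
  simp only [Finset.mem_insert, Finset.mem_singleton] at hmem
  unfold Nat.ModEq at hmod
  rcases hmem with h | h | h | h <;> rw [h] at hidx ⊢ <;> omega

/-- Inversion. -/
noncomputable def inv11 : MulAut Py where
  toFun x := x⁻¹
  invFun x := x⁻¹
  left_inv := inv_inv
  right_inv := inv_inv
  map_mul' x y := by
    obtain ⟨x, i, rfl⟩ := x
    obtain ⟨y, j, rfl⟩ := y
    refine Subtype.ext ?_
    show (yG ^ i * yG ^ j)⁻¹ = (yG ^ i)⁻¹ * (yG ^ j)⁻¹
    rw [← mul_inv_rev, ((Commute.refl yG).zpow_zpow i j).eq]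

theorem inv11_apply (x : Py) : inv11 x = x⁻¹ := rfl

theorem inv11_not_mem : inv11 ∉ nmap.range := by
  intro h
  have h2 : inv11 ^ 2 = 1 := MulEquiv.ext fun x => by
    rw [pow_two, MulAut.mul_apply, inv11_apply, inv11_apply, inv_inv]; rfl
  have h5 : orderOf inv11 ∣ 5 := card_range ▸ Subgroup.orderOf_dvd_natCard nmap.range h
  have h1 : inv11 = 1 := orderOf_eq_one_iff.1 (Nat.eq_one_of_dvd_coprimes (by norm_num)
    (orderOf_dvd_of_pow_eq_one h2) h5)
  have e : inv11 (⟨yG, Subgroup.mem_zpowers _⟩ : Py) = ⟨yG, Subgroup.mem_zpowers _⟩ := by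
    rw [h1]; rfl
  have e' : yG⁻¹ = yG := congrArg Subtype.val e
  have hd := orderOf_dvd_of_pow_eq_one (show yG ^ 2 = 1 by
    rw [pow_two]; exact mul_eq_one_iff_eq_inv.2 e'.symm)
  rw [order_y] at hd
  exact absurd hd (by norm_num)

/-- The graph automorphism on generators. -/
noncomputable def swap : G →* G :=
  PresentedGroup.toGroup (f := fun x => gn (sw (presFi22.gens.idxOf x))) (by
    intro r hr
    refine (presFi22.rels_iff _ fun a => presFi22.g_mul_self _).2 (fun w hw => ?_) r hr
    have h := wp_one9 (List.all_eq_true.1 sw_rels w hw)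
    rw [wp, List.map_map] at h
    refine Eq.trans (congrArg List.prod (List.map_congr_left fun x _ => ?_)) h
    show presFi22.ext _ x = presFi22.g (sw x)
    rcases Nat.lt_or_ge x 9 with hx | hx
    · interval_cases x <;> rfl
    · have e1 : presFi22.gens[x]? = none := List.getElem?_eq_none hx
      have e2 : sw x = x := by
        rw [sw, List.getD_eq_default]; exact hx
      rw [e2, Pres.ext, e1, presFi22.g_junk x hx]; rfl)

theorem swap_gn (x : ℕ) : swap (gn x) = gn (sw x) := by
  rcases Nat.lt_or_ge x 9 with hx | hx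
  · interval_cases x <;> exact PresentedGroup.toGroup.of _
  · have e2 : sw x = x := by rw [sw, List.getD_eq_default]; exact hx
    show swap (presFi22.g x) = presFi22.g (sw x)
    rw [e2, presFi22.g_junk x hx, map_one]

theorem swap_swap (g : G) : swap (swap g) = g := by
  have h : swap.comp swap = MonoidHom.id G := MonoidHom.eq_of_eqOn_dense presFi22.g_gen (by
    rintro _ ⟨x, rfl⟩
    show swap (swap (gn x)) = gn x
    rw [swap_gn, swap_gn]
    refine congrArg gn ?_
    rcases Nat.lt_or_ge x 9 with hx | hx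
    · interval_cases x <;> rfl
    · have e2 : sw x = x := by rw [sw, List.getD_eq_default]; exact hx
      rw [e2, e2])
  exact DFunLike.congr_fun h g

/-- The graph automorphism. -/
noncomputable def swapAut : MulAut G :=
  { toFun := swap, invFun := swap, left_inv := swap_swap, right_inv := swap_swap,
    map_mul' := swap.map_mul }

/-- The outer automorphism normalised at the base. -/
noncomputable def outer : MulAut G := MulAut.conj (wp kWord) * swapAut

theorem outer_apply (g : G) : outer g = wp kWord * swap g * (wp kWord)⁻¹ := rfl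

theorem swap_wp (w : List ℕ) : swap (wp w) = wp (w.map sw) := by
  rw [wp, wp, map_list_prod, List.map_map, List.map_map]
  exact congrArg List.prod (List.map_congr_left fun x _ => swap_gn x)

theorem outer_a : outer aG = aG := by
  have h := wp_one9 alpha_a
  rw [wp_append, wp_append, wp_append, wp_rev, wp_single, wp_single] at h
  rw [outer_apply, swap_gn]
  show wp kWord * gn 6 * (wp kWord)⁻¹ = aG
  rw [mul_eq_one_iff_eq_inv.1 h]
  exact inv_eq_of_mul_eq_one_right a_sq

theorem outer_y : outer yG = yG⁻¹ := by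
  have h := wp_one9 alpha_y
  rw [wp_append, wp_append, wp_append, wp_rev] at h
  rw [outer_apply, yG, swap_wp]
  exact mul_eq_one_iff_eq_inv.1 h

theorem norm_of_apply {g : G} {x : G} (hx : x ∈ Py) (hne : x ≠ 1) (h : g * x * g⁻¹ ∈ Py) :
    g ∈ Subgroup.normalizer (Py : Set G) := by
  have htop : ∀ {z : G}, z ∈ Py → z ≠ 1 → Subgroup.zpowers z = Py := fun {z} hz hz1 => by
    refine Subgroup.eq_of_le_of_card_ge (Subgroup.zpowers_le.2 hz) ?_
    rw [card_Py, Nat.card_zpowers]
    have hd := Subgroup.orderOf_dvd_natCard Py hz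
    rw [card_Py] at hd
    rcases (Nat.dvd_prime (by norm_num)).1 hd with e | e
    · exact absurd (orderOf_eq_one_iff.1 e) hz1
    · omega
  have hne' : g * x * g⁻¹ ≠ 1 := fun e => hne (conj_eq_one_iff.1 e)
  have hmap : Py.map (MulAut.conj g).toMonoidHom = Py := by
    conv_lhs => rw [← htop hx hne, MonoidHom.map_zpowers]
    exact htop h hne'
  rw [Subgroup.mem_normalizer_iff]
  intro z
  constructor
  · intro hz
    rw [← hmap]
    exact Subgroup.mem_map_of_mem _ hz
  · intro hz
    rw [← hmap, Subgroup.mem_map] at hz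
    obtain ⟨w, hw, e⟩ := hz
    have : w = z := (MulAut.conj g).injective e
    exact this ▸ hw

theorem outer_not_inner : outer ∉ Cfsg.Inn G := by
  rintro ⟨g, hg⟩
  have e : g * yG * g⁻¹ = yG⁻¹ := by
    rw [← MulAut.conj_apply, hg, outer_y]
  have hn : g ∈ Subgroup.normalizer (Py : Set G) :=
    norm_of_apply (Subgroup.mem_zpowers _) y_ne_one (e ▸ Py.inv_mem (Subgroup.mem_zpowers _))
  refine inv11_not_mem ⟨⟨g, hn⟩, MulEquiv.ext fun x => Subtype.ext ?_⟩
  obtain ⟨x, n, rfl⟩ := x
  rw [Subgroup.normalizerMonoidHom_apply_apply_coe, inv11_apply, Subgroup.coe_inv]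
  show g * yG ^ n * g⁻¹ = (yG ^ n)⁻¹
  rw [← conj_zpow, e, inv_zpow]

theorem adjust (α : MulAut G) (ha : α aG = aG) (hy : α yG = yG ∨ α yG = yG⁻¹) :
    ∃ g, α = MulAut.conj g ∨ α = outer * MulAut.conj g := by
  rcases hy with hy | hy
  · obtain ⟨k, -, h | h⟩ := rigid α ha hy <;> exact ⟨_, Or.inl h⟩
  · have h1 : (outer⁻¹ * α) aG = aG := by
      rw [MulAut.mul_apply, ha]; exact (MulEquiv.symm_apply_eq _).2 outer_a.symm
    have h2 : (outer⁻¹ * α) yG = yG := by
      rw [MulAut.mul_apply, hy, map_inv, inv_eq_iff_eq_inv]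
      exact (MulEquiv.symm_apply_eq _).2 (by rw [map_inv, outer_y, inv_inv])
    obtain ⟨k, -, h | h⟩ := rigid _ h1 h2
    · exact ⟨_, Or.inr (by rw [← h, mul_inv_cancel_left])⟩
    · exact ⟨_, Or.inr (by rw [← h, mul_inv_cancel_left])⟩

theorem classify (α : MulAut G) : α ∈ Cfsg.Inn G ∨ outer⁻¹ * α ∈ Cfsg.Inn G := by
  haveI : Fact (Nat.Prime 11) := ⟨by norm_num⟩
  obtain ⟨Q, hQ⟩ := exists_sylow
  obtain ⟨Q', hQ'⟩ := exists_sylow
  -- move the image of the Sylow subgroup back
  have hp : IsPGroup 11 (Py.map α.toMonoidHom) := by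
    refine IsPGroup.of_card (n := 1) ?_
    rw [← Nat.card_congr (Py.equivMapOfInjective _ α.injective).toEquiv, card_Py, pow_one]
  obtain ⟨R, hR⟩ := hp.exists_le_sylow
  have hR' : Py.map α.toMonoidHom = (R : Subgroup G) :=
    Subgroup.eq_of_le_of_card_ge hR (by
      rw [sylow_card, ← Nat.card_congr (Py.equivMapOfInjective _ α.injective).toEquiv, card_Py])
  obtain ⟨g, hg⟩ := MulAction.exists_smul_eq G R Q
  set α₁ : MulAut G := MulAut.conj g * α with hα₁
  have hmem : ∀ x ∈ Py, α₁ x ∈ Py := by
    intro x hx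
    rw [← hQ, ← hg, Sylow.coe_subgroup_smul, ← hR']
    exact Subgroup.smul_mem_pointwise_smul _ (MulAut.conj g) _ (Subgroup.mem_map_of_mem _ hx)
  -- it fixes the transposition
  obtain ⟨j, hj⟩ := Subgroup.mem_zpowers_iff.1 (hmem yG (Subgroup.mem_zpowers _))
  have hy1 : α₁ yG ≠ 1 := fun e => y_ne_one (α₁.injective (e.trans (map_one α₁).symm))
  have hcomm : α₁ aG * yG = yG * α₁ aG := by
    have hgen : Subgroup.zpowers (α₁ yG) = Py := by
      refine Subgroup.eq_of_le_of_card_ge (Subgroup.zpowers_le.2 (hmem _ (Subgroup.mem_zpowers _))) ?_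
      rw [card_Py, Nat.card_zpowers, MulEquiv.orderOf_eq, order_y]
    obtain ⟨i, hi⟩ := Subgroup.mem_zpowers_iff.1
      (show yG ∈ Subgroup.zpowers (α₁ yG) by rw [hgen]; exact Subgroup.mem_zpowers _)
    have hc : Commute (α₁ aG) (α₁ yG) := Commute.map (show Commute aG yG from a_comm_y.symm) α₁
    have := hc.zpow_right i
    rw [hi] at this
    exact this.eq
  have ha : α₁ aG = aG := by
    obtain ⟨k, hk, h⟩ := centralizer_y hcomm
    have hsq : α₁ aG * α₁ aG = 1 := by rw [← map_mul, a_sq, map_one]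
    have hne : α₁ aG ≠ 1 := fun e => a_ne_one (α₁.injective (e.trans (map_one α₁).symm))
    have h2 : yG ^ (2 * k) = 1 := by
      rcases h with h | h <;> rw [h] at hsq
      · rwa [← pow_add, ← two_mul] at hsq
      · rw [mul_assoc, ← mul_assoc (yG ^ k), comm_pow, mul_assoc aG, ← mul_assoc, a_sq,
          one_mul, ← pow_add, ← two_mul] at hsq
        exact hsq
    have hd := orderOf_dvd_of_pow_eq_one h2
    rw [order_y] at hd
    have hk0 : k = 0 := by omega
    subst hk0
    rcases h with h | h
    · exact absurd (by rw [h, pow_zero]) hne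
    · rw [h, pow_zero, mul_one]
  -- the induced automorphism of the subgroup
  let μ : MulAut Py := MulEquiv.ofBijective
    ((α₁.toMonoidHom.comp Py.subtype).codRestrict Py fun x => hmem x x.2)
    ((Finite.injective_iff_bijective).1 fun x y e => Subtype.ext (α₁.injective (congrArg Subtype.val e)))
  have hcardA : Nat.card (MulAut Py) = 10 := by
    rw [IsCyclic.card_mulAut, card_Py]; exact Nat.totient_prime (by norm_num)
  have hidx : nmap.range.index = 2 := by
    have := Subgroup.card_mul_index nmap.range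
    rw [card_range, hcardA] at this; omega
  let yP : Py := ⟨yG, Subgroup.mem_zpowers _⟩
  obtain ⟨n, hn, hy⟩ : ∃ n : G, ∃ hn : n ∈ Subgroup.normalizer (Py : Set G),
      n * yG * n⁻¹ = α₁ yG ∨ n * yG * n⁻¹ = (α₁ yG)⁻¹ := by
    by_cases hμ : μ ∈ nmap.range
    · obtain ⟨⟨n, hn⟩, e⟩ := hμ
      refine ⟨n, hn, Or.inl ?_⟩
      exact congrArg Subtype.val (DFunLike.congr_fun e yP)
    · have hμι : inv11 * μ ∈ nmap.range :=
        (Subgroup.mul_mem_iff_of_index_two hidx).2 (iff_of_false inv11_not_mem hμ)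
      obtain ⟨⟨n, hn⟩, e⟩ := hμι
      refine ⟨n, hn, Or.inr ?_⟩
      have e' := congrArg Subtype.val (DFunLike.congr_fun e yP)
      rw [MulAut.mul_apply, inv11_apply] at e'
      exact e'
  have hna : n * aG = aG * n := by
    rw [← fix_iff_comm]
    have h1 : n⁻¹ * yG * n ∈ Py := by
      have := (Subgroup.mem_normalizer_iff''.1 hn yG).1 (Subgroup.mem_zpowers _)
      exact this
    obtain ⟨i, hi⟩ := Subgroup.mem_zpowers_iff.1 h1
    refine y_fix_only ?_
    have e : yG * n = n * yG ^ i := by rw [hi]; group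
    rw [← Equiv.Perm.mul_apply, ← map_mul, e, map_mul, Equiv.Perm.mul_apply, map_zpow,
      Equiv.Perm.zpow_apply_eq_self_of_apply_eq_self y_fix]
  have h1 : ((MulAut.conj n)⁻¹ * α₁) aG = aG := by
    rw [MulAut.mul_apply, ha]
    refine (MulEquiv.symm_apply_eq _).2 ?_
    rw [MulAut.conj_apply, hna]; group
  have h2 : ((MulAut.conj n)⁻¹ * α₁) yG = yG ∨ ((MulAut.conj n)⁻¹ * α₁) yG = yG⁻¹ := by
    rcases hy with e | e
    · left
      rw [MulAut.mul_apply]
      exact (MulEquiv.symm_apply_eq _).2 (by rw [MulAut.conj_apply, e])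
    · right
      rw [MulAut.mul_apply]
      refine (MulEquiv.symm_apply_eq _).2 ?_
      rw [MulAut.conj_apply, ← conj_inv, e, inv_inv]
  obtain ⟨h, hh⟩ := adjust _ h1 h2
  have key : α = (MulAut.conj g)⁻¹ * (MulAut.conj n * ((MulAut.conj n)⁻¹ * α₁)) := by
    rw [mul_inv_cancel_left, hα₁, inv_mul_cancel_left]
  have hI : ∀ x : G, MulAut.conj x ∈ Cfsg.Inn G := fun x => ⟨x, rfl⟩
  have hgn : (MulAut.conj g)⁻¹ * MulAut.conj n ∈ Cfsg.Inn G :=
    Subgroup.mul_mem _ (Subgroup.inv_mem _ (hI g)) (hI n)
  rcases hh with e | e <;> rw [e, ← mul_assoc] at key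
  · exact Or.inl (key ▸ Subgroup.mul_mem _ hgn (hI h))
  · refine Or.inr ?_
    rw [key, ← mul_assoc, ← mul_assoc]
    refine Subgroup.mul_mem _ ?_ (hI h)
    have := (Cfsg.innNormal G).conj_mem _ hgn outer⁻¹
    rwa [inv_inv, ← mul_assoc] at this

theorem out_card : Nat.card (Cfsg.Out G) = 2 := by
  rw [Nat.card_eq_two_iff]
  refine ⟨QuotientGroup.mk 1, QuotientGroup.mk outer, ?_, ?_⟩
  · intro e
    rw [QuotientGroup.eq, inv_one, one_mul] at e
    exact outer_not_inner e
  · rw [Set.eq_univ_iff_forall]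
    intro q
    obtain ⟨α, rfl⟩ := QuotientGroup.mk_surjective q
    rcases classify α with h | h
    · left
      rw [QuotientGroup.eq, mul_one]
      exact Subgroup.inv_mem _ h
    · right
      exact Set.mem_singleton_iff.2 (QuotientGroup.eq.2 (by
        rw [← inv_inv outer, ← mul_inv_rev]; exact Subgroup.inv_mem _ h))

end Cfsg.Agent.Fi22Out
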