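import Cfsg.Agent.Lib.Fi22Out.CheckStab
import Cfsg.Agent.Lib.Fi22Out.CheckY
import Cfsg.Agent.Lib.Fi22Out.CheckRigid
import Cfsg.Agent.Lib.Fi22Out.CheckGens
import Cfsg.Agent.Lib.Enum.FiMain

/-! An automorphism of Fi22 fixing a transposition and an element of order eleven commuting with it
is conjugation by an element of the group generated by these two. -/

set_option autoImplicit false
set_option maxRecDepth 100000

namespace Cfsg.Agent.Fi22Out

open Cfsg.Agent.Enum

/-- The presented group. -/
abbrev G : Type := presFi22.Grp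

/-- A generator. -/
noncomputable abbrev gn (x : ℕ) : G := presFi22.g x

/-- The product of a word. -/
noncomputable abbrev wp (w : List ℕ) : G := (w.map presFi22.g).prod

instance : Finite G := Nat.finite_of_card_ne_zero (by rw [FiMain.card_grp]; norm_num)

theorem range_four {p : ℕ → Bool} (h0 : allRange p 64 0 878 = true) (h1 : allRange p 64 878 878 = true)
    (h2 : allRange p 64 1756 877 = true) (h3 : allRange p 64 2633 877 = true) {i : ℕ} (hi : i < T.N) :
    p i = true := by
  have hi : i < 3510 := hi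
  rcases (show i < 878 ∨ (878 ≤ i ∧ i < 1756) ∨ (1756 ≤ i ∧ i < 2633) ∨ 2633 ≤ i by omega)
    with h | ⟨h, h'⟩ | ⟨h, h'⟩ | h
  · exact allRange_spec 64 0 878 h0 i (Nat.zero_le _) (by omega)
  · exact allRange_spec 64 878 878 h1 i h (by omega)
  · exact allRange_spec 64 1756 877 h2 i h (by omega)
  · exact allRange_spec 64 2633 877 h3 i h (by omega)

theorem a_commutes {w : List ℕ} (hw : w ∈ FiA.data.subs) :
    T.chkWord ([0] ++ w ++ [0] ++ w.reverse) = true := by
  obtain ⟨k, hk, rfl⟩ := List.getElem_of_mem hw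
  have hk9 : k < 9 := lt_of_lt_of_le hk subs_length
  have hm : FiA.data.subs[k] ∈ (FiA.data.subs.drop k).take 1 := by
    rw [List.drop_eq_getElem_cons hk, List.take_succ_cons]; exact List.mem_cons_self ..
  interval_cases k
  exacts [List.all_eq_true.1 a_commutes0 _ hm, List.all_eq_true.1 a_commutes1 _ hm,
    List.all_eq_true.1 a_commutes2 _ hm, List.all_eq_true.1 a_commutes3 _ hm,
    List.all_eq_true.1 a_commutes4 _ hm, List.all_eq_true.1 a_commutes5 _ hm,
    List.all_eq_true.1 a_commutes6 _ hm, List.all_eq_true.1 a_commutes7 _ hm,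
    List.all_eq_true.1 a_commutes8 _ hm]

/-- The base point. -/
def z0 : Fin T.N := ⟨0, FiA.certified.pos⟩

/-- The permutation representation. -/
noncomputable def phi : G →* Equiv.Perm (Fin T.N) := (Table.orbit_point FiA.certified).choose

theorem phi_spec : ∃ f : G ⧸ FiA.sub → Fin T.N, (∀ x, phi (gn x) = T.permOf FiA.certified.invol x) ∧
    (∀ a q, f (a • q) = phi a (f q)) ∧ ∀ i, f (Table.coset presFi22.g FiA.sub T FiA.data i) = i :=
  (Table.orbit_point FiA.certified).choose_spec

theorem phi_gen (x : ℕ) : phi (gn x) = T.permOf FiA.certified.invol x := by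
  obtain ⟨f, h, -⟩ := phi_spec; exact h x

theorem phi_inj : Function.Injective phi := by
  obtain ⟨ψ, hψ, -, hinj⟩ := FiMain.rep
  have : phi = ψ := MonoidHom.eq_of_eqOn_dense presFi22.g_gen (by
    rintro _ ⟨x, rfl⟩; exact (phi_gen x).trans (hψ x).symm)
  rw [this]; exact hinj

theorem phi_wp (w : List ℕ) (i : Fin T.N) : (phi (wp w) i : ℕ) = T.imgWord w.reverse i := by
  have h : phi (wp w) = (w.map (T.permOf FiA.certified.invol)).prod := by
    rw [map_list_prod, List.map_map]
    exact congrArg List.prod (List.map_congr_left fun x _ => phi_gen x)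
  have e := Data.act_eq (T.permOf FiA.certified.invol) w.reverse i
  rw [List.map_reverse, List.reverse_reverse, Table.act_permOf, Equiv.Perm.smul_def] at e
  rw [h, ← e]

theorem wp_one {w : List ℕ} (h : T.chkWord w = true) : wp w = 1 := by
  refine phi_inj ?_
  rw [map_one, map_list_prod, List.map_map]
  exact (congrArg List.prod (List.map_congr_left fun x _ => phi_gen x)).trans
    (T.prod_permOf FiA.certified.invol h)

theorem wp_append (u w : List ℕ) : wp (u ++ w) = wp u * wp w := by
  simp [wp, List.map_append, List.prod_append]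

theorem wp_single (x : ℕ) : wp [x] = gn x := by simp [wp]

theorem wp_rev (w : List ℕ) : wp w.reverse = (wp w)⁻¹ := by
  rw [wp, List.map_reverse, Data.reverse_prod _ presFi22.g_mul_self]

/-- The transposition at the base. -/
noncomputable abbrev aG : G := gn 0

theorem stab_iff (k : G) : phi k z0 = z0 ↔ k ∈ FiA.sub := by
  obtain ⟨f, -, hf, hfc⟩ := phi_spec
  have hinj : Function.Injective f := fun p q h => by
    obtain ⟨i, rfl⟩ := Table.coset_surjective FiA.certified p
    obtain ⟨j, rfl⟩ := Table.coset_surjective FiA.certified q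
    rw [hfc, hfc] at h; rw [h]
  have h0 : f (QuotientGroup.mk 1) = z0 := by
    rw [← Table.coset_zero FiA.certified]; exact hfc _
  have hk : (k • (QuotientGroup.mk 1 : G ⧸ FiA.sub)) = QuotientGroup.mk 1 ↔ k ∈ FiA.sub := by
    show (QuotientGroup.mk (k * 1) : G ⧸ FiA.sub) = _ ↔ _
    rw [QuotientGroup.eq]; simp
  rw [← hk]
  constructor
  · intro h; refine hinj ?_; rw [hf, h0, h]
  · intro h; have := congrArg f h; rwa [hf, h0] at this

theorem sub_eq : FiA.sub = Subgroup.centralizer {aG} := by
  have hle : FiA.sub ≤ Subgroup.centralizer {aG} := by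
    rw [FiA.sub, Subgroup.closure_le]
    rintro _ ⟨w, hw, rfl⟩
    have h := wp_one (a_commutes hw)
    rw [wp_append, wp_append, wp_append, wp_rev, wp_single] at h
    rw [SetLike.mem_coe, Subgroup.mem_centralizer_singleton_iff]
    have h2 := mul_inv_eq_one.1 h
    calc wp w * aG = aG * (aG * wp w * aG) := by
          rw [mul_assoc aG, ← mul_assoc aG aG, presFi22.g_mul_self, one_mul]
      _ = aG * wp w := by rw [h2]
  refine ((overgroup_cases FiA.certified FiA.suborbits FiA.suborbits_ok FiA.sub_words 3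
      (by decide +kernel) (by decide +kernel) (by decide +kernel) [1, 2816, 693] rfl
      (by decide +kernel) (by decide +kernel) (by decide +kernel) _ hle).resolve_right ?_).symm
  intro htop
  have h : gn 1 * aG = aG * gn 1 :=
    Subgroup.mem_centralizer_singleton_iff.1 (htop ▸ Subgroup.mem_top (gn 1))
  have e := congrArg (fun p => ((phi p) z0 : ℕ)) h
  simp only [map_mul, phi_gen, Equiv.Perm.mul_apply] at e
  exact a_b e.symm

theorem fix_iff_comm (k : G) : phi k z0 = z0 ↔ k * aG = aG * k := by
  rw [stab_iff, sub_eq, Subgroup.mem_centralizer_singleton_iff]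

/-- An element moving the base point to `i`. -/
noncomputable def toPt (i : Fin T.N) : G := wp (wordTo 40 i)

theorem toPt_spec (i : Fin T.N) : phi (toPt i) z0 = i := by
  refine Fin.ext ?_
  rw [toPt, phi_wp]
  exact Table.beq_eq (range_four wordTo_ok0 wordTo_ok1 wordTo_ok2 wordTo_ok3 i.2)

/-- The transposition of a point. -/
noncomputable def dd (i : Fin T.N) : G := toPt i * aG * (toPt i)⁻¹

theorem dd_spec {g : G} {i : Fin T.N} (h : phi g z0 = i) : g * aG * g⁻¹ = dd i := by
  have hk : phi ((toPt i)⁻¹ * g) z0 = z0 := by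
    rw [map_mul, Equiv.Perm.mul_apply, h, map_inv]
    exact Equiv.Perm.inv_eq_iff_eq.2 (toPt_spec i).symm
  have hc := (fix_iff_comm _).1 hk
  calc g * aG * g⁻¹ = toPt i * (((toPt i)⁻¹ * g) * aG) * g⁻¹ := by group
    _ = dd i := by rw [hc, dd]; group

theorem phi_dd (i j : Fin T.N) : (phi (dd i) j : ℕ) = op i j := by
  have h : dd i = wp (dWord i) := by
    rw [dWord, wp_append, wp_append, wp_rev, wp_single]; rfl
  rw [h, phi_wp, op]
  simp [dWord]

/-- The element of order eleven. -/
noncomputable def yG : G := wp yWord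

theorem phi_y (i : Fin T.N) : (phi yG i : ℕ) = yImg i := by
  rw [yG, phi_wp]
  exact Table.beq_eq (range_four y_ok0 y_ok1 y_ok2 y_ok3 i.2)

theorem phi_y_pow (k : ℕ) (i : Fin T.N) : (phi (yG ^ k) i : ℕ) = yIter k i := by
  induction k with
  | zero => simp [yIter]
  | succ k ih => rw [pow_succ', map_mul, Equiv.Perm.mul_apply, phi_y, ih]; rfl

theorem y_fix : phi yG z0 = z0 := Fin.ext ((phi_y z0).trans y_zero)

theorem y_fix_only {i : Fin T.N} (h : phi yG i = i) : i = z0 := by
  have e := allRange_spec 64 0 3510 y_free i (Nat.zero_le _) (by rw [Nat.zero_add]; exact i.2)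
  have hb : Nat.beq (yImg i) i = true := by rw [← phi_y, h]; exact Nat.beq_refl _
  rw [hb, Bool.not_true, Bool.or_false] at e
  exact Fin.ext (Table.beq_eq e)

theorem a_comm_y : yG * aG = aG * yG := (fix_iff_comm _).1 y_fix

/-- The point with a given number. -/
def pt (n : ℕ) : Fin T.N := if h : n < T.N then ⟨n, h⟩ else z0

theorem pt_val {n : ℕ} (h : n < T.N) : ((pt n : Fin T.N) : ℕ) = n := by simp [pt, h]

theorem trace_facts {V : List ℕ} (hV : chkTrace V = true) :
    (∀ k, k < 34 → ent V k < T.N) ∧ ent V 0 = 0 ∧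
      (∀ k, k < 10 → yImg (ent V (k + 1)) = ent V (k + 2)) ∧
      ∀ c ∈ circuit, op (ent V c.1) (ent V c.2.1) = ent V c.2.2 := by
  simp only [chkTrace, Bool.and_eq_true, List.all_eq_true, List.mem_range] at hV
  obtain ⟨⟨⟨⟨-, h1⟩, h2⟩, h3⟩, h4⟩ := hV
  exact ⟨fun k hk => Table.blt_lt (h1 k hk), Table.beq_eq h2, fun k hk => Table.beq_eq (h3 k hk),
    fun c hc => Table.beq_eq (h4 c hc)⟩

theorem genPt_lt {x : ℕ} (hx : x < 9) : genPos.getD x 99 < 34 :=
  Table.blt_lt (List.all_eq_true.1 genPos_lt x (List.mem_range.2 hx))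

theorem gen_dd {x : ℕ} (hx : x < 9) : dd (pt (ent baseTrace (genPos.getD x 99))) = gn x := by
  refine phi_inj (Equiv.ext fun j => Fin.ext ?_)
  rw [phi_dd, pt_val ((trace_facts base_ok).1 _ (genPt_lt hx)), phi_gen]
  refine Table.beq_eq (allRange_spec (p := fun j =>
    Nat.beq (op (ent baseTrace (genPos.getD x 99)) j) (T.img x j)) 64 0 3510 ?_ j (Nat.zero_le _)
    (by rw [Nat.zero_add]; exact j.2))
  interval_cases x
  exacts [gens_ok0, gens_ok1, gens_ok2, gens_ok3, gens_ok4, gens_ok5, gens_ok6, gens_ok7, gens_ok8]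

section Equivariant

variable (α : MulAut G)

/-- The point map of an automorphism. -/
noncomputable def beta (i : Fin T.N) : Fin T.N := phi (α (toPt i)) z0

theorem beta_spec (ha : α aG = aG) (h : G) : beta α (phi h z0) = phi (α h) z0 := by
  have hk : phi ((toPt (phi h z0))⁻¹ * h) z0 = z0 := by
    rw [map_mul, Equiv.Perm.mul_apply, map_inv]
    exact Equiv.Perm.inv_eq_iff_eq.2 (toPt_spec _).symm
  have hk' : phi (α ((toPt (phi h z0))⁻¹ * h)) z0 = z0 := by
    rw [fix_iff_comm]
    conv_lhs => rw [← ha, ← map_mul]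
    conv_rhs => rw [← ha, ← map_mul]
    rw [(fix_iff_comm _).1 hk]
  rw [map_mul, map_inv, map_mul, map_inv, Equiv.Perm.mul_apply, Equiv.Perm.inv_eq_iff_eq] at hk'
  exact hk'.symm

theorem beta_equiv (ha : α aG = aG) (h : G) (j : Fin T.N) :
    beta α (phi h j) = phi (α h) (beta α j) := by
  conv_lhs => rw [← toPt_spec j, ← Equiv.Perm.mul_apply, ← map_mul, beta_spec α ha]
  rw [map_mul, map_mul]; rfl

theorem alpha_dd (ha : α aG = aG) (i : Fin T.N) : α (dd i) = dd (beta α i) := by
  rw [dd, map_mul, map_mul, map_inv, ha]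
  exact dd_spec rfl

theorem beta_trace (ha : α aG = aG) (hy : α yG = yG) {V : List ℕ} (hV : chkTrace V = true)
    (h1 : (beta α (pt (ent baseTrace 1)) : ℕ) = ent V 1) :
    ∀ k, k < 34 → (beta α (pt (ent baseTrace k)) : ℕ) = ent V k := by
  obtain ⟨bl, b0, by', bc⟩ := trace_facts base_ok
  obtain ⟨vl, v0, vy, vc⟩ := trace_facts hV
  intro k
  induction k using Nat.strong_induction_on with
  | _ k ih =>
    intro hk
    rcases (show k = 0 ∨ k = 1 ∨ (2 ≤ k ∧ k < 12) ∨ 12 ≤ k by omega) with rfl | rfl | ⟨h2, h12⟩ | h12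
    · have e : pt (ent baseTrace 0) = phi (1 : G) z0 := by
        rw [map_one]; refine Fin.ext ?_; rw [pt_val (bl 0 hk), b0]; rfl
      rw [e, beta_spec α ha, map_one, map_one, v0]; rfl
    · exact h1
    · obtain ⟨m, rfl⟩ : ∃ m, k = m + 2 := ⟨k - 2, by omega⟩
      have e : pt (ent baseTrace (m + 2)) = phi yG (pt (ent baseTrace (m + 1))) := by
        refine Fin.ext ?_
        rw [pt_val (bl _ hk), phi_y, pt_val (bl _ (by omega)), by' m (by omega)]
      rw [e, beta_equiv α ha, hy, phi_y, ih (m + 1) (by omega) (by omega), vy m (by omega)]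
    · obtain ⟨s, rfl⟩ : ∃ s, k = 12 + s := ⟨k - 12, by omega⟩
      have hc := List.all_eq_true.1 circuit_ok s (List.mem_range.2 (by omega))
      rcases e : circuit[s]? with _ | c
      · rw [e] at hc; simp at hc
      rw [e] at hc
      simp only [Bool.and_eq_true] at hc
      obtain ⟨⟨hl, hj⟩, hk'⟩ := hc
      have hl := Table.beq_eq hl
      have hj := Table.blt_lt hj
      have hk' := Table.blt_lt hk'
      have hm := List.mem_of_getElem? e
      have e' : pt (ent baseTrace (12 + s)) =
          phi (dd (pt (ent baseTrace c.1))) (pt (ent baseTrace c.2.1)) := by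
        refine Fin.ext ?_
        rw [pt_val (bl _ hk), phi_dd, pt_val (bl _ (by omega)), pt_val (bl _ (by omega)), bc c hm, hl]
      rw [e', beta_equiv α ha, alpha_dd α ha, phi_dd, ih c.1 (by omega) (by omega),
        ih c.2.1 (by omega) (by omega), vc c hm, hl]

theorem fixed_case (ha : α aG = aG) (hy : α yG = yG) {q : ℕ}
    (hq : (beta α (pt (ent baseTrace 1)) : ℕ) = q)
    (hrep : q = ent baseTrace 1 ∨ ∃ V ∈ traces, ent V 1 = q) : α = 1 := by
  obtain ⟨bl, -, -, -⟩ := trace_facts base_ok
  rcases hrep with rfl | ⟨V, hVm, rfl⟩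
  · have hfix := beta_trace α ha hy base_ok hq
    refine MulEquiv.ext fun x => ?_
    have hh : α.toMonoidHom = MonoidHom.id G := MonoidHom.eq_of_eqOn_dense presFi22.g_gen (by
      rintro _ ⟨x, rfl⟩
      rcases Nat.lt_or_ge x 9 with hx | hx
      · have hp := genPt_lt hx
        have e := gen_dd hx
        show α (gn x) = gn x
        rw [← e, alpha_dd α ha]
        refine congrArg dd (Fin.ext ?_)
        rw [hfix _ hp, pt_val (bl _ hp)]
      · show α (presFi22.g x) = presFi22.g x
        rw [presFi22.g_junk x hx, map_one])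
    exact DFunLike.congr_fun hh x
  · exfalso
    have hV := List.all_eq_true.1 traces_ok V hVm
    have hb := List.all_eq_true.1 traces_bad V hVm
    have hfix := beta_trace α ha hy hV hq
    simp only [chkBad, List.any_eq_true, Bool.not_eq_true'] at hb
    obtain ⟨c, hc, hne⟩ := hb
    have hc' := List.all_eq_true.1 base_tests c hc
    simp only [Bool.and_eq_true] at hc'
    obtain ⟨⟨⟨he, hj⟩, hk⟩, hl⟩ := hc'
    have hj := Table.blt_lt hj
    have hk := Table.blt_lt hk
    have hl := Table.blt_lt hl
    refine Nat.ne_of_beq_eq_false hne ?_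
    rw [← hfix _ hj, ← hfix _ hk, ← phi_dd, ← alpha_dd α ha, ← beta_equiv α ha, ← hfix _ hl]
    refine congrArg (fun p => ((beta α p : Fin T.N) : ℕ)) (Fin.ext ?_)
    rw [phi_dd, pt_val (bl _ hj), pt_val (bl _ hk), pt_val (bl _ hl), Table.beq_eq he]

end Equivariant

/-- Rigidity. -/
theorem rigid (α : MulAut G) (ha : α aG = aG) (hy : α yG = yG) :
    ∃ k < 11, α = MulAut.conj (yG ^ k) ∨ α = MulAut.conj (aG * yG ^ k) := by
  obtain ⟨bl, -, -, -⟩ := trace_facts base_ok
  set q := beta α (pt (ent baseTrace 1)) with hq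
  have hcov := allRange_spec 64 0 3510 cover_ok q (Nat.zero_le _) (by rw [Nat.zero_add]; exact q.2)
  simp only [chkCover, Bool.or_eq_true, Bool.and_eq_true] at hcov
  rcases hcov with h | ⟨⟨⟨hr, hk⟩, hrep⟩, he⟩
  · exfalso
    apply a_moves
    have e : phi aG q = q := by
      refine Fin.ext ?_
      rw [phi_gen]
      exact Table.beq_eq h
    rw [hq, ← ha, ← beta_equiv α ha] at e
    have hinj : Function.Injective (beta α) := by
      have hs : α.symm aG = aG := (MulEquiv.symm_apply_eq α).2 ha.symm
      refine Function.LeftInverse.injective (g := beta α.symm) fun i => ?_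
      show beta α.symm (phi (α (toPt i)) z0) = i
      rw [beta_spec α.symm hs, α.symm_apply_apply, toPt_spec]
    have e' := congrArg Fin.val (hinj e)
    rw [phi_gen, pt_val (bl 1 (by norm_num))] at e'
    exact (congrArg (T.img 0) (pt_val (bl 1 (by norm_num))).symm).trans e'
  · generalize field 24 covData q = e at hr hk hrep he
    have hk := Table.blt_lt hk
    have hr := Table.blt_lt hr
    have key : ∀ z : G, z * aG = aG * z → z * yG = yG * z → phi z (pt (e / 256)) = q →
        α = MulAut.conj z := by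
      intro z hza hzy hz
      have h1 : (MulAut.conj z)⁻¹ * α = 1 := by
        refine fixed_case _ ?_ ?_ (q := e / 256) ?_ ?_
        · rw [MulAut.mul_apply, ha]
          refine (MulEquiv.symm_apply_eq _).2 ?_
          rw [MulAut.conj_apply, hza]; group
        · rw [MulAut.mul_apply, hy]
          refine (MulEquiv.symm_apply_eq _).2 ?_
          rw [MulAut.conj_apply, hzy]; group
        · have hb : beta ((MulAut.conj z)⁻¹ * α) (pt (ent baseTrace 1)) = phi z⁻¹ q := by
            rw [hq, beta, beta, ← Equiv.Perm.mul_apply, ← map_mul, MulAut.mul_apply]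
            have hh : ((MulAut.conj z)⁻¹ : MulAut G) (α (toPt (pt (ent baseTrace 1)))) =
                z⁻¹ * α (toPt (pt (ent baseTrace 1))) * z := by
              refine (MulEquiv.symm_apply_eq _).2 ?_
              rw [MulAut.conj_apply]; group
            rw [hh, map_mul, Equiv.Perm.mul_apply, (fix_iff_comm z).2 hza]
          rw [hb, ← hz, ← Equiv.Perm.mul_apply, ← map_mul, inv_mul_cancel, map_one,
            Equiv.Perm.one_apply, pt_val hr]
        · rcases hrep with h | h
          · exact Or.inl (Table.beq_eq h)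
          · obtain ⟨V, hV, hV'⟩ := List.any_eq_true.1 h
            exact Or.inr ⟨V, hV, Table.beq_eq hV'⟩
      exact (inv_mul_eq_one.1 h1).symm
    have hcy : ∀ k : ℕ, yG ^ k * aG = aG * yG ^ k := fun k =>
      ((Commute.pow_left (show Commute yG aG from a_comm_y) k)).eq
    refine ⟨e / 2 % 128, hk, ?_⟩
    cases hb : Nat.beq (e % 2) 0 with
    | true =>
      rw [hb, cond_true] at he
      refine Or.inl (key _ (hcy _) ((Commute.refl yG).pow_left _).eq (Fin.ext ?_))
      rw [phi_y_pow, pt_val hr, ← Table.beq_eq he]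
    | false =>
      rw [hb, cond_false] at he
      refine Or.inr (key _ ?_ ?_ (Fin.ext ?_))
      · rw [mul_assoc, hcy]
      · rw [mul_assoc, ← pow_succ, pow_succ', ← mul_assoc, ← a_comm_y, mul_assoc]
      · rw [map_mul, Equiv.Perm.mul_apply, phi_gen]
        show T.img 0 _ = _
        rw [phi_y_pow, pt_val hr, ← Table.beq_eq he]

end Cfsg.Agent.Fi22Out
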